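import Cfsg.Agent.Lib.Classical.Order
import Cfsg.Prelude.Def_KGroupFacts

/-!
`SL(2,q)` is a stem extension of `PSL(2,q)` for `q ≥ 4`.
-/

set_option autoImplicit false

namespace Cfsg.Agent.Lib.SchurAlt

variable {F : Type*} [Field F] [Fintype F]

theorem sl_perfect (h : 4 ≤ Fintype.card F) :
    commutator (Matrix.SpecialLinearGroup (Fin 2) F) = ⊤ := by
  classical
  obtain ⟨a, -, ha⟩ := Finset.exists_mem_notMem_of_card_lt_card (s := ({0, 1, -1} : Finset F))
    (t := Finset.univ) (lt_of_le_of_lt Finset.card_le_three h)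
  simp only [Finset.mem_insert, Finset.mem_singleton, not_or] at ha
  exact Matrix.SL2.commutator_eq_top ha.1 fun h2 => by
    rcases sq_eq_one_iff.1 h2 with h | h
    · exact ha.2.1 h
    · exact ha.2.2 h

theorem sl_stem (h : 4 ≤ Fintype.card F) :
    Cfsg.IsStemExtension
      (QuotientGroup.mk' (Subgroup.center (Matrix.SpecialLinearGroup (Fin 2) F)) :
        Matrix.SpecialLinearGroup (Fin 2) F →* Matrix.ProjectiveSpecialLinearGroup (Fin 2) F) := by
  refine ⟨QuotientGroup.mk'_surjective _, (QuotientGroup.ker_mk' _).le, ?_⟩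
  rw [sl_perfect h]
  exact le_top

theorem card_ker_sl (hodd : Odd (Fintype.card F)) :
    Nat.card (QuotientGroup.mk' (Subgroup.center (Matrix.SpecialLinearGroup (Fin 2) F))).ker = 2 := by
  rw [QuotientGroup.ker_mk']
  have h1 := (Subgroup.center (Matrix.SpecialLinearGroup (Fin 2) F)).card_mul_index
  rw [Subgroup.index_eq_card] at h1
  have h2 := Cfsg.Agent.Lib.Classical.two_mul_card_PSL_two_of_odd hodd
  rw [← Cfsg.Agent.Lib.Classical.card_SL_two] at h2
  rw [← h2] at h1
  exact Nat.eq_of_mul_eq_mul_right (Nat.card_pos) h1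

end Cfsg.Agent.Lib.SchurAlt
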